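import Mathlib

/-!
The transfer into the abelianisation of the derived subgroup is trivial (determinant argument in
the group ring of `G / G'`).
-/

set_option autoImplicit false
set_option linter.style.haveILetI false
set_option linter.unusedSectionVars false

namespace Cfsg.Agent.PIT

open Subgroup
open scoped commutatorElement

variable {G : Type*} [Group G]

/-- translation of functions on a group -/
def shift (Q : Type*) [Group Q] (X : Type*) [AddCommGroup X] : Q →* AddMonoid.End (Q → X) where
  toFun x := AddMonoidHom.mk' (fun f y => f (x⁻¹ * y)) fun _ _ => rfl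
  map_one' := AddMonoidHom.ext fun f => funext fun y => congrArg f (by rw [inv_one, one_mul])
  map_mul' x x' := AddMonoidHom.ext fun f => funext fun y => congrArg f (by
    rw [mul_inv_rev, mul_assoc])

theorem det_smul_eq_zero {R M ι : Type*} [CommRing R] [AddCommGroup M] [Module R M] [Fintype ι]
    [DecidableEq ι] (B : Matrix ι ι R) (m : ι → M) (h : ∀ i, ∑ j, B i j • m j = 0) (j : ι) :
    B.det • m j = 0 := by
  have h1 : ∑ k, B.adjugate j k • (∑ l, B k l • m l) = 0 :=
    Finset.sum_eq_zero fun k _ => by rw [h, smul_zero]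
  simp only [Finset.smul_sum, smul_smul] at h1
  rw [Finset.sum_comm] at h1
  simp only [← Finset.sum_smul] at h1
  have h2 : ∀ l, ∑ k, B.adjugate j k * B k l = if j = l then B.det else 0 := by
    intro l
    have := congrFun (congrFun (Matrix.adjugate_mul B) j) l
    rw [Matrix.mul_apply, Matrix.smul_apply, Matrix.one_apply] at this
    rw [this]
    split_ifs <;> simp
  simp only [h2, ite_smul, zero_smul, Finset.sum_ite_eq, Finset.mem_univ, if_true] at h1
  exact h1

open scoped IsMulCommutative in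
theorem transfer_commutator_trivial [Finite G] :
    MonoidHom.transfer (Abelianization.of : ↥(commutator G) →* Abelianization ↥(commutator G)) =
      (1 : G →* Abelianization ↥(commutator G)) := by
  classical
  set A := commutator G with hA
  haveI : IsMulCommutative (G ⧸ A) := ⟨⟨fun u v => by
    induction u using QuotientGroup.induction_on with
    | H x =>
      induction v using QuotientGroup.induction_on with
      | H y =>
        rw [← QuotientGroup.mk_mul, ← QuotientGroup.mk_mul, QuotientGroup.eq]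
        rw [show (x * y)⁻¹ * (y * x) = ⁅y⁻¹, x⁻¹⁆ by simp [commutatorElement_def, mul_assoc]]
        exact commutator_mem_commutator (mem_top _) (mem_top _)⟩⟩
  let Q := G ⧸ A
  cases nonempty_fintype Q
  let X := Additive (Abelianization A)
  letI : Module (MonoidAlgebra ℤ Q) (Q → X) :=
    Module.compHom (Q → X) (MonoidAlgebra.lift ℤ (AddMonoid.End (Q → X)) Q (shift Q X)).toRingHom
  have hsmul : ∀ (x : Q) (f : Q → X) (y : Q),
      ((MonoidAlgebra.of ℤ Q x : (MonoidAlgebra ℤ Q)) • f) y = f (x⁻¹ * y) := by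
    intro x f y
    change (MonoidAlgebra.lift ℤ (AddMonoid.End (Q → X)) Q (shift Q X) (MonoidAlgebra.of ℤ Q x)) f y = _
    rw [MonoidAlgebra.lift_of]
    rfl
  -- the cocycle
  let T : A.LeftTransversal := default
  let t : Q → G := fun q => (T.2.leftQuotientEquiv q : G)
  have ht : ∀ q : Q, ((t q : G) : Q) = q := fun q =>
    IsComplement.quotientGroupMk_leftQuotientEquiv T.2 q
  let c : G → Q → A := fun g q => ⟨(t q)⁻¹ * (g * t (((g : G) : Q)⁻¹ * q)), by
    apply QuotientGroup.eq.1
    rw [QuotientGroup.mk_mul, ht, ht, mul_inv_cancel_left]⟩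
  let d : G → (Q → X) := fun g q => Additive.ofMul (Abelianization.of (c g q))
  have hd : ∀ g h, d (g * h) = d g + (MonoidAlgebra.of ℤ Q (g : Q) : (MonoidAlgebra ℤ Q)) • d h := by
    intro g h
    funext q
    rw [Pi.add_apply, hsmul]
    change Additive.ofMul (Abelianization.of (c (g * h) q)) =
      Additive.ofMul (Abelianization.of (c g q) * Abelianization.of (c h ((g : Q)⁻¹ * q)))
    rw [← map_mul]
    congr 2
    apply Subtype.ext
    change (t q)⁻¹ * (g * h * t (((g * h : G) : Q)⁻¹ * q)) =
      (t q)⁻¹ * (g * t ((g : Q)⁻¹ * q)) *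
        ((t ((g : Q)⁻¹ * q))⁻¹ * (h * t ((h : Q)⁻¹ * ((g : Q)⁻¹ * q))))
    rw [QuotientGroup.mk_mul, mul_inv_rev, mul_assoc (h : Q)⁻¹]
    group
  have hV : ∀ g, Additive.ofMul
      (MonoidHom.transfer (Abelianization.of : A →* Abelianization A) g) = ∑ q, d g q := by
    intro g
    rw [MonoidHom.transfer_def _ T]
    change Additive.ofMul (Subgroup.leftTransversals.diff _ T (g • T)) =
      ∑ q, Additive.ofMul (Abelianization.of (c g q))
    rw [← ofMul_prod]
    congr 1
    unfold Subgroup.leftTransversals.diff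
    dsimp only
    refine Finset.prod_congr
      (Finset.ext fun q => iff_of_true (@Finset.mem_univ _ (_) q) (@Finset.mem_univ _ (_) q))
      fun q _ => congrArg _ (Subtype.ext ?_)
    have h1 := Subgroup.smul_leftQuotientEquiv g T ((g : Q)⁻¹ * q)
    rw [show g • ((g : Q)⁻¹ * q : Q) = q by
      change ((g : Q)) * ((g : Q)⁻¹ * q) = q
      rw [mul_inv_cancel_left]] at h1
    change (t q)⁻¹ * _ = (t q)⁻¹ * (g * t ((g : Q)⁻¹ * q))
    rw [← h1]
    rfl
  let M := (Q → X) × (MonoidAlgebra ℤ Q)
  let D : G → M := fun g => (d g, MonoidAlgebra.of ℤ Q (g : Q) - 1)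
  have hD : ∀ g h, D (g * h) = D g + (MonoidAlgebra.of ℤ Q (g : Q) : (MonoidAlgebra ℤ Q)) • D h := by
    intro g h
    refine Prod.ext (hd g h) ?_
    change MonoidAlgebra.of ℤ Q ((g * h : G) : Q) - 1 =
      MonoidAlgebra.of ℤ Q (g : Q) - 1 + MonoidAlgebra.of ℤ Q (g : Q) * (MonoidAlgebra.of ℤ Q (h : Q) - 1)
    rw [QuotientGroup.mk_mul, map_mul]
    ring
  have hD1 : D 1 = 0 := by
    have h1 := hD 1 1
    rw [mul_one, QuotientGroup.mk_one, map_one, one_smul, left_eq_add] at h1
    exact h1
  -- the generators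
  obtain ⟨ι, _, n, hn, ⟨e⟩⟩ := CommGroup.equiv_prod_multiplicative_zmod_of_finite Q
  haveI : ∀ i, NeZero (n i) := fun i => ⟨by have := hn i; omega⟩
  let x : ι → Q := fun i => e.symm (Pi.mulSingle i (Multiplicative.ofAdd 1))
  choose gen hgen using fun i => QuotientGroup.mk_surjective (x i)
  let J := ι ⊕ A
  cases nonempty_fintype A
  let g : J → G := Sum.elim gen (fun a => (a : G))
  let o : J → ℕ := Sum.elim n (fun _ => 1)
  have ho : ∀ j, g j ^ o j ∈ A := by
    rintro (i | a)
    · change gen i ^ n i ∈ A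
      rw [← QuotientGroup.eq_one_iff, QuotientGroup.mk_pow, hgen]
      change x i ^ n i = 1
      simp only [x]
      rw [← map_pow, ← Pi.mulSingle_pow, ← ofAdd_nsmul, nsmul_one, ZMod.natCast_self, ofAdd_zero,
        Pi.mulSingle_one, map_one]
    · change (a : G) ^ 1 ∈ A
      rw [pow_one]
      exact a.2
  have hprod : ∏ j, (o j : ℤ) = Fintype.card Q := by
    rw [Fintype.prod_sum_type]
    simp only [o, Sum.elim_inl, Sum.elim_inr, Nat.cast_one, Finset.prod_const_one, mul_one]
    rw [← Nat.cast_prod, Fintype.card_congr e.toEquiv, Fintype.card_pi]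
    congr 1
    exact Finset.prod_congr rfl fun i _ => by
      rw [Fintype.card_congr (Multiplicative.toAdd (α := ZMod (n i))), ZMod.card]
  have hclose : Subgroup.closure (Set.range g) = ⊤ := by
    rw [eq_top_iff]
    intro y _
    set L := Subgroup.closure (Set.range g)
    have hAL : A ≤ L := fun a ha => Subgroup.subset_closure ⟨Sum.inr ⟨a, ha⟩, rfl⟩
    have hgenQ : ∀ i (u : Multiplicative (ZMod (n i))),
        e.symm (Pi.mulSingle i u) ∈ L.map (QuotientGroup.mk' A) := by
      intro i u
      have hu : u = (Multiplicative.ofAdd (1 : ZMod (n i))) ^ u.toAdd.val := by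
        rw [← ofAdd_nsmul, nsmul_one, ZMod.natCast_zmod_val]
        rfl
      rw [hu, Pi.mulSingle_pow, map_pow]
      have hx : e.symm (Pi.mulSingle i (Multiplicative.ofAdd (1 : ZMod (n i)))) ∈
          L.map (QuotientGroup.mk' A) :=
        ⟨gen i, Subgroup.subset_closure ⟨Sum.inl i, rfl⟩, hgen i⟩
      exact pow_mem hx _
    have hy : (y : Q) ∈ L.map (QuotientGroup.mk' A) := by
      rw [← e.symm_apply_apply (y : Q), ← Finset.univ_prod_mulSingle (e (y : Q)), map_prod]
      exact Subgroup.prod_mem _ fun i _ => hgenQ i _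
    obtain ⟨l, hl, hly⟩ := hy
    have h1 : l⁻¹ * y ∈ A := QuotientGroup.eq.1 hly
    simpa using mul_mem hl (hAL h1)
  -- spans
  let ε : (MonoidAlgebra ℤ Q) →+* ℤ := (MonoidAlgebra.lift ℤ ℤ Q (1 : Q →* ℤ)).toRingHom
  have hε : ∀ q, ε (MonoidAlgebra.of ℤ Q q) = 1 := fun q => by
    change MonoidAlgebra.lift ℤ ℤ Q (1 : Q →* ℤ) (MonoidAlgebra.of ℤ Q q) = 1
    rw [MonoidAlgebra.lift_of]; rfl
  let Sp : Submodule (MonoidAlgebra ℤ Q) M := Submodule.span (MonoidAlgebra ℤ Q) (Set.range fun j => D (g j))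
  have hspan : ∀ y, D y ∈ Sp := by
    let G0 : Subgroup G :=
      { carrier := {y | D y ∈ Sp}
        one_mem' := by change D 1 ∈ Sp; rw [hD1]; exact Sp.zero_mem
        mul_mem' := fun {u v} hu hv => by
          change D (u * v) ∈ Sp
          rw [hD]
          exact Sp.add_mem hu (Sp.smul_mem _ hv)
        inv_mem' := fun {u} hu => by
          change D u⁻¹ ∈ Sp
          have h1 := hD u⁻¹ u
          rw [inv_mul_cancel, hD1] at h1
          rw [eq_neg_of_add_eq_zero_left h1.symm]
          exact Sp.neg_mem (Sp.smul_mem _ hu) }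
    have hG0 : (⊤ : Subgroup G) ≤ G0 := by
      rw [← hclose, Subgroup.closure_le]
      rintro _ ⟨j, rfl⟩
      exact Submodule.subset_span ⟨j, rfl⟩
    exact fun y => hG0 (mem_top y)
  let IS : AddSubgroup M :=
    { carrier := {m | ∃ a : J → (MonoidAlgebra ℤ Q), (∀ j, ε (a j) = 0) ∧ m = ∑ j, a j • D (g j)}
      zero_mem' := ⟨0, fun j => map_zero ε, by simp⟩
      add_mem' := fun {u v} hu hv => by
        obtain ⟨a, ha, rfl⟩ := hu
        obtain ⟨b, hb, rfl⟩ := hv
        refine ⟨a + b, fun j => by rw [Pi.add_apply, map_add, ha, hb, add_zero], ?_⟩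
        simp only [Pi.add_apply, add_smul, Finset.sum_add_distrib]
      neg_mem' := fun {u} hu => by
        obtain ⟨a, ha, rfl⟩ := hu
        refine ⟨-a, fun j => by rw [Pi.neg_apply, map_neg, ha, neg_zero], ?_⟩
        simp only [Pi.neg_apply, neg_smul, Finset.sum_neg_distrib] }
  have hIS : ∀ (r : (MonoidAlgebra ℤ Q)), ε r = 0 → ∀ m ∈ Sp, r • m ∈ IS := by
    intro r hr m hm
    obtain ⟨a, rfl⟩ := (Submodule.mem_span_range_iff_exists_fun (MonoidAlgebra ℤ Q)).1 hm
    refine ⟨fun j => r * a j, fun j => by rw [map_mul, hr, zero_mul], ?_⟩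
    simp only [Finset.smul_sum, smul_smul]
  have hAIS : ∀ a ∈ A, D a ∈ IS := by
    intro a ha
    rw [hA, commutator_eq_closure] at ha
    suffices h : D a ∈ IS ∧ (a : Q) = 1 from h.1
    refine Subgroup.closure_induction ?_ ?_ ?_ ?_ ha
    · rintro _ ⟨u, v, rfl⟩
      have huv : (⁅u, v⁆ : G) ∈ A := commutator_mem_commutator (mem_top u) (mem_top v)
      have hq : ((⁅u, v⁆ : G) : Q) = 1 := (QuotientGroup.eq_one_iff _).2 huv
      refine ⟨?_, hq⟩
      have h1 := hD ⁅u, v⁆ (v * u)
      rw [hq, map_one, one_smul, show ⁅u, v⁆ * (v * u) = u * v by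
        simp [commutatorElement_def, mul_assoc]] at h1
      rw [eq_sub_of_add_eq h1.symm, hD, hD,
        show D u + (MonoidAlgebra.of ℤ Q (u : Q) : (MonoidAlgebra ℤ Q)) • D v -
          (D v + (MonoidAlgebra.of ℤ Q (v : Q) : (MonoidAlgebra ℤ Q)) • D u) =
          (1 - MonoidAlgebra.of ℤ Q (v : Q) : (MonoidAlgebra ℤ Q)) • D u +
            (MonoidAlgebra.of ℤ Q (u : Q) - 1 : (MonoidAlgebra ℤ Q)) • D v by
          rw [sub_smul, sub_smul, one_smul, one_smul]; abel]
      exact IS.add_mem (hIS _ (by rw [map_sub, map_one, hε, sub_self]) _ (hspan u))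
        (hIS _ (by rw [map_sub, map_one, hε, sub_self]) _ (hspan v))
    · exact ⟨by rw [hD1]; exact IS.zero_mem, rfl⟩
    · rintro u v _ _ ⟨hu, hu'⟩ ⟨hv, hv'⟩
      refine ⟨?_, by rw [QuotientGroup.mk_mul, hu', hv', one_mul]⟩
      rw [hD, hu', map_one, one_smul]
      exact IS.add_mem hu hv
    · rintro u _ ⟨hu, hu'⟩
      refine ⟨?_, by rw [QuotientGroup.mk_inv, hu', inv_one]⟩
      have h1 := hD u u⁻¹
      rw [mul_inv_cancel, hD1, hu', map_one, one_smul] at h1
      rw [eq_neg_of_add_eq_zero_right h1.symm]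
      exact IS.neg_mem hu
  -- the relations
  let N : J → (MonoidAlgebra ℤ Q) := fun j => ∑ k ∈ Finset.range (o j), (MonoidAlgebra.of ℤ Q (g j : Q)) ^ k
  have hN : ∀ j, N j • D (g j) = D (g j ^ o j) := by
    intro j
    simp only [N]
    induction o j with
    | zero => rw [Finset.range_zero, Finset.sum_empty, zero_smul, pow_zero, hD1]
    | succ k ih =>
      rw [Finset.sum_range_succ, add_smul, ih, pow_succ (g j), hD, QuotientGroup.mk_pow, map_pow]
  choose a ha hrel using fun j => hN j ▸ hAIS _ (ho j)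
  let B : Matrix J J (MonoidAlgebra ℤ Q) := fun i j => (if i = j then N i else 0) - a i j
  have hB : ∀ i, ∑ j, B i j • D (g j) = 0 := by
    intro i
    simp only [B, sub_smul, Finset.sum_sub_distrib, ite_smul, zero_smul]
    rw [sub_eq_zero, ← hrel i]
    exact (Finset.sum_eq_single i (fun k _ hk => if_neg hk.symm)
      (fun h => absurd (Finset.mem_univ i) h)).trans (if_pos rfl)
  have hdet := det_smul_eq_zero B (fun j => D (g j)) hB
  set μ := B.det with hμ
  have hμD : ∀ y, μ • D y = 0 := by
    intro y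
    obtain ⟨cf, hcf⟩ := (Submodule.mem_span_range_iff_exists_fun (MonoidAlgebra ℤ Q)).1 (hspan y)
    rw [← hcf, Finset.smul_sum]
    refine Finset.sum_eq_zero fun j _ => ?_
    rw [smul_comm, hdet, smul_zero]
  have hinv : ∀ q : Q, μ * MonoidAlgebra.of ℤ Q q = μ := by
    intro q
    obtain ⟨y, rfl⟩ := QuotientGroup.mk_surjective q
    have h1 : μ * (MonoidAlgebra.of ℤ Q (y : Q) - 1) = 0 := congrArg Prod.snd (hμD y)
    rwa [mul_sub, mul_one, sub_eq_zero] at h1
  have hεμ : ε μ = Fintype.card Q := by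
    rw [hμ, RingHom.map_det, ← hprod]
    have h1 : ε.mapMatrix B = Matrix.diagonal fun j => (o j : ℤ) := by
      ext i j
      change ε ((if i = j then N i else 0) - a i j) = _
      rw [map_sub, ha, sub_zero, Matrix.diagonal_apply]
      split_ifs with h
      · simp only [N, map_sum, map_pow, hε, one_pow, Finset.sum_const, Finset.card_range,
          nsmul_eq_mul, mul_one]
      · exact map_zero ε
    rw [h1, Matrix.det_diagonal]
  let Nall : (MonoidAlgebra ℤ Q) := ∑ q : Q, MonoidAlgebra.of ℤ Q q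
  have hμN : (Fintype.card Q : ℤ) • μ = (Fintype.card Q : ℤ) • Nall := by
    have h1 : μ * Nall = (Fintype.card Q : ℤ) • μ := by
      refine (Finset.mul_sum _ _ _).trans ((Finset.sum_congr rfl fun q _ => hinv q).trans ?_)
      rw [Finset.sum_const, Finset.card_univ]
      exact (natCast_zsmul _ _).symm
    have h2 : ∀ r : (MonoidAlgebra ℤ Q), r * Nall = ε r • Nall := by
      intro r
      induction r using MonoidAlgebra.induction_on with
      | of q =>
        rw [hε, one_smul]
        refine (Finset.mul_sum _ _ _).trans ((Finset.sum_congr rfl fun q' _ => ?_).trans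
          (Equiv.sum_comp (Equiv.mulLeft q) (fun q => MonoidAlgebra.of ℤ Q q)))
        exact ((MonoidAlgebra.of ℤ Q).map_mul q q').symm
      | add f f' hf hf' => rw [add_mul, hf, hf', map_add, add_smul]
      | smul k f hf =>
        rw [smul_mul_assoc, hf, map_zsmul, smul_assoc]
    rw [← h1, h2, hεμ]
  have hμeq : μ = Nall :=
    smul_right_injective _ (Int.natCast_ne_zero.2 Fintype.card_ne_zero) hμN
  refine MonoidHom.ext fun y => ?_
  apply Additive.ofMul.injective
  rw [hV, MonoidHom.one_apply, ofMul_one]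
  have h1 : (μ • d y) 1 = 0 := congrFun (congrArg Prod.fst (hμD y)) 1
  rw [hμeq, Finset.sum_smul, Finset.sum_apply] at h1
  simp only [hsmul, mul_one] at h1
  rw [← h1]
  exact (Equiv.sum_comp (Equiv.inv Q) (fun q => d y q)).symm

end Cfsg.Agent.PIT
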